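import Cfsg.Agent.CoOneUniq.Local.Seven.Tab

/-!
# The scan over the octads, part 0
-/

set_option autoImplicit false
set_option maxRecDepth 100000

namespace Cfsg.Agent.CoOneUniq.Local.Seven

theorem oct_count0 : Nat.beq (countOct K B Z test octPart0) 810 = true := by decide +kernel

theorem oct_count1 : Nat.beq (countOct K B Z test octPart1) 802 = true := by decide +kernel

theorem oct_count2 : Nat.beq (countOct K B Z test octPart2) 908 = true := by decide +kernel

end Cfsg.Agent.CoOneUniq.Local.Seven
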