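import Cfsg.Agent.CoOneUniq.Local.Seven.Tab

/-!
# The scan over the octads, part 1
-/

set_option autoImplicit false
set_option maxRecDepth 100000

namespace Cfsg.Agent.CoOneUniq.Local.Seven

theorem oct_count3 : Nat.beq (countOct K B Z test octPart3) 1040 = true := by decide +kernel

theorem oct_count4 : Nat.beq (countOct K B Z test octPart4) 1048 = true := by decide +kernel

theorem oct_count5 : Nat.beq (countOct K B Z test octPart5) 1176 = true := by decide +kernel

end Cfsg.Agent.CoOneUniq.Local.Seven
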