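import Cfsg.Agent.CoOneUniq.Local.Seven.Tab

/-!
# The scan over the odd vectors, part 1
-/

set_option autoImplicit false
set_option maxRecDepth 100000

namespace Cfsg.Agent.CoOneUniq.Local.Seven

theorem odd_count2 : Nat.beq (countOdd K B Z test codePart2) 1440 = true := by decide +kernel

theorem odd_count3 : Nat.beq (countOdd K B Z test codePart3) 1520 = true := by decide +kernel

end Cfsg.Agent.CoOneUniq.Local.Seven
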