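import Cfsg.Agent.CoOneUniq.Local.Seven.Tab

/-!
# The scan over the vectors with an entry four
-/

set_option autoImplicit false
set_option maxRecDepth 100000

namespace Cfsg.Agent.CoOneUniq.Local.Seven

theorem pair_count : Nat.beq (countPair K Z test) 56 = true := by decide +kernel

end Cfsg.Agent.CoOneUniq.Local.Seven
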