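import Cfsg.Agent.CoOneUniq.Local.SevenElt
import Cfsg.Agent.CoOneUniq.Local.Seven.Base
import Cfsg.Agent.CoOneUniq.Local.Seven.ScanPair
import Cfsg.Agent.CoOneUniq.Local.Seven.ScanOct0
import Cfsg.Agent.CoOneUniq.Local.Seven.ScanOct1
import Cfsg.Agent.CoOneUniq.Local.Seven.ScanOdd0
import Cfsg.Agent.CoOneUniq.Local.Seven.ScanOdd1

/-!
# The centraliser of the element of order seven has order at most 35280
-/

set_option autoImplicit false
set_option maxRecDepth 100000

open Cfsg
open Cfsg.Agent.Leech (LGen)

namespace Cfsg.Agent.CoOneUniq.Local.Seven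

theorem same_table : M1 = vM := by decide +kernel

theorem square : sameB (matGen M2 M2_ok).f (vG.comp vG).f = true := by decide +kernel

theorem powers : ∀ k < [M1, M2].length, ∃ h : matB ([M1, M2].getD k []) = true,
    (matGen ([M1, M2].getD k []) h).g = vG.g ^ (k + 1) := by
  intro k hk
  rcases (show k = 0 ∨ k = 1 by simp only [List.length_cons, List.length_nil] at hk; omega) with rfl | rfl
  · refine ⟨M1_ok, ?_⟩
    rw [zero_add, pow_one]
    show (matGen M1 M1_ok).g = (matGen vM vM_ok).g
    simp only [same_table]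
  · refine ⟨M2_ok, ?_⟩
    rw [show (1 : ℕ) + 1 = 2 from rfl, pow_two]
    exact eq_of_sameB (b := vG.comp vG) square

theorem scan_le : {x : GolayPt → ℤ | x ∈ leechLattice ∧ sqNorm x = 32 ∧
    ∀ k < [M1, M2].length, dotInt x (app ([M1, M2].getD k []) x) = ts.getD k 0}.ncard ≤ 11760 := by
  refine le_trans (ncard_quad_le [M1, M2] ?_ ts K K_eq B sub (Z_eq ▸ B_ok) cs (by decide +kernel) test
    (fun n => test_eq n)) ?_
  · intro M hM
    rcases List.mem_cons.1 hM with rfl | hM
    · exact ok_of_matB M1_ok
    · rw [List.mem_singleton] at hM; subst hM; exact ok_of_matB M2_ok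
  · rw [Z_eq, octL, codeL]
    simp only [countOct_append, countOdd_append]
    rw [Nat.eq_of_beq_eq_true pair_count, Nat.eq_of_beq_eq_true oct_count0,
      Nat.eq_of_beq_eq_true oct_count1, Nat.eq_of_beq_eq_true oct_count2,
      Nat.eq_of_beq_eq_true oct_count3, Nat.eq_of_beq_eq_true oct_count4,
      Nat.eq_of_beq_eq_true oct_count5, Nat.eq_of_beq_eq_true odd_count0,
      Nat.eq_of_beq_eq_true odd_count1, Nat.eq_of_beq_eq_true odd_count2,
      Nat.eq_of_beq_eq_true odd_count3]

theorem keys1_eq : keysOf orb0 (orb1.headD []) = keys1 := by decide +kernel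
theorem keys2_eq : keysOf (orb0 ++ orb1) (orb2.headD []) = keys2 := by decide +kernel
theorem keys3_eq : keysOf (orb0 ++ orb1 ++ orb2) (orb3.headD []) = keys3 := by decide +kernel

theorem count1 : Nat.ble (l16.countP (candB vG.f keys1 selfs1)) 1 = true := by decide +kernel
theorem count2 : Nat.ble (l16.countP (candB vG.f keys2 selfs2)) 3 = true := by decide +kernel
theorem count3 : Nat.ble (l16.countP (candB vG.f keys3 selfs3)) 1 = true := by decide +kernel

/-- The bound on the centraliser. -/
theorem centralizer_le :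
    Nat.card ↥(Subgroup.centralizer ({vG.g} : Set ↥Co0)) ≤ 35280 := by
  obtain ⟨P1, h1, I1⟩ := first (g := vG) [M1, M2] ts powers orb0 (by decide +kernel) (by decide +kernel)
    11760 scan_le
  obtain ⟨P2, h2, I2⟩ := step I1 (by decide +kernel) (orb1.headD []) orb1 keys1 selfs1 1
    (by decide +kernel) (by decide +kernel) keys1_eq (by decide +kernel) (by decide +kernel) count1
  obtain ⟨P3, h3, I3⟩ := step I2 (by decide +kernel) (orb2.headD []) orb2 keys2 selfs2 3
    (by decide +kernel) (by decide +kernel) keys2_eq (by decide +kernel) (by decide +kernel) count2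
  obtain ⟨P4, h4, I4⟩ := step I3 (by decide +kernel) (orb3.headD []) orb3 keys3 selfs3 1
    (by decide +kernel) (by decide +kernel) keys3_eq (by decide +kernel) (by decide +kernel) count3
  have h5 := card_eq_one I4 spanW (by decide +kernel) spanD spanC (by decide +kernel)
  rw [h5] at h4
  omega

end Cfsg.Agent.CoOneUniq.Local.Seven
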